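import Cfsg.Agent.Comp.Look

/-! The transposing networks for `2^t` points, `2 ≤ t ≤ 16`. -/

set_option autoImplicit false

namespace Cfsg.Agent.Comp

noncomputable def trN2 : Net := transNet 3 [(0, 2), (1, 2)]

theorem trOK2 : TransOK 2 1 trN2 := transOK_of_chk (by decide +kernel)

noncomputable def trN3 : Net := transNet 5 [(0, 3), (1, 4), (2, 3), (3, 4)]

theorem trOK3 : TransOK 3 2 trN3 := transOK_of_chk (by decide +kernel)

noncomputable def trN4 : Net := transNet 6 [(0, 4), (1, 5), (2, 4), (3, 5)]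

theorem trOK4 : TransOK 4 2 trN4 := transOK_of_chk (by decide +kernel)

noncomputable def trN5 : Net := transNet 8 [(0, 5), (1, 6), (2, 7), (3, 5), (4, 6), (5, 7), (6, 7)]

theorem trOK5 : TransOK 5 3 trN5 := transOK_of_chk (by decide +kernel)

noncomputable def trN6 : Net := transNet 9 [(0, 6), (1, 7), (2, 8), (3, 6), (4, 7), (5, 8)]

theorem trOK6 : TransOK 6 3 trN6 := transOK_of_chk (by decide +kernel)

noncomputable def trN7 : Net := transNet 10 [(0, 7), (1, 8), (2, 9), (3, 7), (4, 8), (5, 9), (6, 7), (7, 8), (8, 9)]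

theorem trOK7 : TransOK 7 3 trN7 := transOK_of_chk (by decide +kernel)

noncomputable def trN8 : Net := transNet 11 [(0, 8), (1, 9), (2, 10), (3, 8), (4, 9), (5, 10), (6, 8), (7, 9), (8, 10), (9, 10)]

theorem trOK8 : TransOK 8 3 trN8 := transOK_of_chk (by decide +kernel)

noncomputable def trN9 : Net := transNet 13 [(0, 9), (1, 10), (2, 11), (3, 12), (4, 9), (5, 10), (6, 11), (7, 12), (8, 9), (9, 10), (10, 11), (11, 12)]

theorem trOK9 : TransOK 9 4 trN9 := transOK_of_chk (by decide +kernel)

noncomputable def trN10 : Net := transNet 14 [(0, 10), (1, 11), (2, 12), (3, 13), (4, 10), (5, 11), (6, 12), (7, 13), (8, 10), (9, 11), (10, 12), (11, 13)]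

theorem trOK10 : TransOK 10 4 trN10 := transOK_of_chk (by decide +kernel)

noncomputable def trN11 : Net := transNet 15 [(0, 11), (1, 12), (2, 13), (3, 14), (4, 11), (5, 12), (6, 13), (7, 14), (8, 11), (9, 12), (10, 13), (11, 14), (12, 14), (13, 14)]

theorem trOK11 : TransOK 11 4 trN11 := transOK_of_chk (by decide +kernel)

noncomputable def trN12 : Net := transNet 16 [(0, 12), (1, 13), (2, 14), (3, 15), (4, 12), (5, 13), (6, 14), (7, 15), (8, 12), (9, 13), (10, 14), (11, 15)]

theorem trOK12 : TransOK 12 4 trN12 := transOK_of_chk (by decide +kernel)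

noncomputable def trN13 : Net := transNet 17 [(0, 13), (1, 14), (2, 15), (3, 16), (4, 13), (5, 14), (6, 15), (7, 16), (8, 13), (9, 14), (10, 15), (11, 16), (12, 13), (13, 14), (14, 15), (15, 16)]

theorem trOK13 : TransOK 13 4 trN13 := transOK_of_chk (by decide +kernel)

noncomputable def trN14 : Net := transNet 18 [(0, 14), (1, 15), (2, 16), (3, 17), (4, 14), (5, 15), (6, 16), (7, 17), (8, 14), (9, 15), (10, 16), (11, 17), (12, 14), (13, 15), (14, 16), (15, 17)]

theorem trOK14 : TransOK 14 4 trN14 := transOK_of_chk (by decide +kernel)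

noncomputable def trN15 : Net := transNet 19 [(0, 15), (1, 16), (2, 17), (3, 18), (4, 15), (5, 16), (6, 17), (7, 18), (8, 15), (9, 16), (10, 17), (11, 18), (12, 15), (13, 16), (14, 17), (15, 18), (16, 18), (17, 18)]

theorem trOK15 : TransOK 15 4 trN15 := transOK_of_chk (by decide +kernel)

noncomputable def trN16 : Net := transNet 20 [(0, 16), (1, 17), (2, 18), (3, 19), (4, 16), (5, 17), (6, 18), (7, 19), (8, 16), (9, 17), (10, 18), (11, 19), (12, 16), (13, 17), (14, 18), (15, 19)]

theorem trOK16 : TransOK 16 4 trN16 := transOK_of_chk (by decide +kernel)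

end Cfsg.Agent.Comp
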