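import Cfsg.Agent.Comp.BitIrr
import Cfsg.Agent.WG.Basic

/-! Groups of invertible bit matrices with a complete word oracle.  A letter is `1 + lin L`. -/

set_option autoImplicit false

namespace Cfsg.Agent.Comp.BM

open Cfsg.Agent.Comp Cfsg.Agent.WG

/-- endomorphisms -/
abbrev EV (n : ℕ) : Type := Module.End (ZMod 2) (V n)
/-- letters -/
abbrev Lts : Type := List (List (ℕ × ℕ))

variable {n R I : ℕ} {Ls Ls' : Lts}

variable (n) in
/-- the map of a letter -/
noncomputable def lm (Ls : Lts) (a : ℕ) : EV n := 1 + lin n (getL [] Ls a)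

/-- the operation of a letter -/
noncomputable def lo (R : ℕ) (Ls : Lts) (a M : ℕ) : ℕ := Nat.xor M (ap R (getL [] Ls a) M)

/-- the operation of a word -/
noncomputable def wo (R : ℕ) (Ls : Lts) (u : List ℕ) (M : ℕ) : ℕ :=
  List.rec (motive := fun _ => ℕ) M (fun r _ s => force s (lo R Ls r)) u

variable (n) in
/-- the letters are valid and come in inverse pairs -/
noncomputable def okL (R I : ℕ) (Ls : Lts) : Bool :=
  and' (Nat.beq R (Kron.rep n n 1)) (and' (Nat.beq I (idS n)) (and' (Nat.beq (Nat.mod Ls.length 2) 0)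
    (and' (allL Ls fun L => allL L fun p => and' (Nat.blt p.1 n) (Nat.blt p.2 (Nat.pow 2 n)))
      (allLT Ls.length fun a => Nat.beq (wo R Ls [a, Nat.xor a 1] I) I))))

theorem col_zero' (M : ℕ) : col n M 0 = vec n M := by
  funext i
  simp [col, vec, Dig.testBit_dig]

theorem Op.vec {Q : ℕ} {F : ℕ → ℕ} {A : EV n} (h : Op n Q F A) (hQ : 0 < Q) (v : ℕ) :
    vec n (F v) = A (vec n v) := by
  rw [← col_zero', h v 0 hQ, col_zero']

theorem lin_nil : lin n [] = 0 := rfl

section
variable (h : okL n R I Ls = true)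
include h

theorem okL_I : I = idS n := by
  simp only [okL, and'_eq_true, beq_iff] at h; exact h.2.1

theorem op_ln (a : ℕ) : Op n n (ap R (getL [] Ls a)) (lin n (getL [] Ls a)) := by
  simp only [okL, and'_eq_true, beq_iff, allL_iff, blt_iff] at h
  rw [h.1]
  refine op_ap fun p hp => ?_
  by_cases ha : a < Ls.length
  · exact h.2.2.2.1 _ (by rw [getL_eq, List.getD_eq_getElem _ _ ha]; exact List.getElem_mem ha) p hp
  · rw [getL_eq, List.getD_eq_default _ _ (not_lt.1 ha)] at hp; simp at hp

theorem op_lo (a : ℕ) : Op n n (lo R Ls a) (lm n Ls a) := Op.id.add (op_ln h a)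

theorem op_wo' (u : List ℕ) : Op n n (wo R Ls u) (u.map (lm n Ls)).prod := by
  induction u with
  | nil => exact Op.id
  | cons a u ih =>
    have : wo R Ls (a :: u) = fun M => lo R Ls a (wo R Ls u M) := funext fun M => force_eq _ _
    rw [this]; exact (op_lo h a).comp ih

theorem lm_inv (a : ℕ) : lm n Ls a * lm n Ls (a ^^^ 1) = 1 := by
  by_cases ha : a < Ls.length
  · have h' := h
    simp only [okL, and'_eq_true, allLT_iff] at h'
    have := (op_wo' h [a, a ^^^ 1]).eq Op.id le_rfl (okL_I h ▸ h'.2.2.2.2 a ha)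
    simpa using this
  · simp only [okL, and'_eq_true, beq_iff] at h
    have h2 : Ls.length % 2 = 0 := h.2.2.1
    have : Ls.length ≤ a ^^^ 1 := by
      rcases Nat.even_or_odd a with e | e
      · rw [Nat.xor_one_of_even e]; omega
      · rw [Nat.xor_one_of_odd e]; obtain ⟨k, rfl⟩ := e; omega
    rw [lm, lm, getL_eq, getL_eq, List.getD_eq_default _ _ (not_lt.1 ha), List.getD_eq_default _ _ this,
      lin_nil, add_zero, mul_one]

/-- the unit of a letter -/
noncomputable def lu (a : ℕ) : (EV n)ˣ :=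
  ⟨lm n Ls a, lm n Ls (a ^^^ 1), lm_inv h a, by simpa [Nat.xor_assoc] using lm_inv h (a ^^^ 1)⟩

theorem op_wo (u : List ℕ) : Op n n (wo R Ls u) (el (lu h) u : (EV n)ˣ) := by
  have : ((el (lu h) u : (EV n)ˣ) : EV n) = (u.map (lm n Ls)).prod := by
    induction u with
    | nil => rfl
    | cons a u ih => rw [el_cons, Units.val_mul, ih]; rfl
  exact this ▸ op_wo' h u

theorem vec_wo (hn : 0 < n) (u : List ℕ) (v : ℕ) :
    vec n (wo R Ls u v) = (el (lu h) u : (EV n)ˣ).1 (vec n v) := (op_wo h u).vec hn v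

end

variable (n) in
/-- equality of states on the first `n` vectors -/
noncomputable def eqS (A B : ℕ) : Bool :=
  Nat.beq (Nat.mod A (Nat.pow 2 (Nat.mul n n))) (Nat.mod B (Nat.pow 2 (Nat.mul n n)))

theorem eqS_iff {A B : ℕ} : eqS n A B = true ↔ ∀ k < n, col n A k = col n B k := by
  rw [eqS, beq_iff]
  change A % 2 ^ (n * n) = B % 2 ^ (n * n) ↔ _
  constructor
  · intro e k hk
    funext i
    have := congrArg (·.testBit (n * k + i)) e
    have hl : n * k + i < n * n := by have := i.2; nlinarith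
    simp only [Nat.testBit_mod_two_pow, hl, decide_true, Bool.true_and] at this
    simp [col, vec, Dig.testBit_dig, this]
  · intro e
    refine Nat.eq_of_testBit_eq fun j => ?_
    rw [Nat.testBit_mod_two_pow, Nat.testBit_mod_two_pow]
    by_cases hj : j < n * n
    · have hn : 0 < n := Nat.pos_of_ne_zero (by rintro rfl; simp at hj)
      have := vec_inj (Dig.dig_lt _ _ _) (Dig.dig_lt _ _ _)
        (e (j / n) (Nat.div_lt_of_lt_mul hj))
      have h2 := congrArg (·.testBit (j % n)) this
      simp only [Dig.testBit_dig, Nat.mod_lt _ hn, decide_true, Bool.true_and, Nat.div_add_mod] at h2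
      rw [h2]
    · simp [hj]

theorem Op.eq_iff {F G : ℕ → ℕ} {A B : EV n} (h : Op n n F A) (h' : Op n n G B) :
    eqS n (F (idS n)) (G (idS n)) = true ↔ A = B := by
  rw [eqS_iff]
  refine ⟨fun e => (Pi.basisFun (ZMod 2) (Fin n)).ext fun i => ?_, fun e k hk => ?_⟩
  · rw [Pi.basisFun_apply, ← col_idS, ← h _ _ i.2, ← h' _ _ i.2, e _ i.2]
  · rw [h _ _ hk, h' _ _ hk, e]

variable (n) in
/-- the oracle -/
noncomputable def eqB (R I : ℕ) (Ls : Lts) (u v : List ℕ) : Bool := eqS n (wo R Ls u I) (wo R Ls v I)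

theorem wd_lu (h : okL n R I Ls = true) : Wd (lu h) (eqB n R I Ls) where
  inv a := Units.ext (by simp [lu])
  iff u v := by
    obtain rfl := okL_I h
    rw [eqB, (op_wo h u).eq_iff (op_wo h v), Units.val_inj]

variable (n) in
/-- the letters `Ls'` are the words `ws` -/
noncomputable def subB (R I : ℕ) (Ls Ls' : Lts) (ws : List (List ℕ)) : Bool :=
  allLT ws.length fun k => eqS n (wo R Ls (getL [] ws k) I) (lo R Ls' (Nat.mul 2 k) I)

theorem lu_eq_of_subB (h : okL n R I Ls = true) (h' : okL n R I Ls' = true) {ws : List (List ℕ)}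
    (hb : subB n R I Ls Ls' ws = true) {k : ℕ} (hk : k < ws.length) :
    lu h' (2 * k) = el (lu h) (getL [] ws k) := by
  have := (allLT_iff _ _).1 hb k hk
  rw [okL_I h, (op_wo h _).eq_iff (op_lo h' _)] at this
  exact Units.ext this.symm

end Cfsg.Agent.Comp.BM
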