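import Cfsg.Agent.Comp.BitGrp

/-! Coordinate subspaces, flags, spans and fixed spaces for groups of bit matrices. -/

set_option autoImplicit false

namespace Cfsg.Agent.Comp.BM

open Cfsg.Agent.Comp Cfsg.Agent.WG Subgroup

variable {n R I : ℕ} {Ls : Lts}

theorem vv (a : V n) : a + a = 0 := funext fun i => CharTwo.add_self_eq_zero (a i)

theorem vv' (a b : V n) : a + (a + b) = b := by rw [← add_assoc, vv, zero_add]

theorem eq_of_add {a b : V n} (h : a + b = 0) : a = b := by rw [← vv' b a, add_comm b a, h, add_zero]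

variable (n) in
/-- vectors supported on a mask -/
def Sp (m : ℕ) : Submodule (ZMod 2) (V n) where
  carrier := {v | ∀ i : Fin n, m.testBit i = false → v i = 0}
  zero_mem' _ _ := rfl
  add_mem' ha hb i hi := by simp [ha i hi, hb i hi]
  smul_mem' c _ ha i hi := by simp [ha i hi]

theorem mem_Sp {m : ℕ} {v : V n} : v ∈ Sp n m ↔ ∀ i : Fin n, m.testBit i = false → v i = 0 := Iff.rfl

/-- inclusion of masks -/
noncomputable def sb (a m : ℕ) : Bool := Nat.beq (Nat.lor a m) m

theorem sb_spec {a m : ℕ} (h : sb a m = true) {i : ℕ} (hi : m.testBit i = false) : a.testBit i = false := by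
  have := congrArg (·.testBit i) ((beq_iff _ _).1 h)
  change (a ||| m).testBit i = _ at this
  simpa [Nat.testBit_or, hi] using this

theorem vec_mem_Sp {a m : ℕ} (h : sb a m = true) : vec n a ∈ Sp n m := fun i hi => by
  simp [vec, sb_spec h hi]

theorem Sp_mono {a m : ℕ} (h : sb a m = true) : Sp n a ≤ Sp n m := fun _ hv i hi => hv i (sb_spec h hi)

theorem Sp_le {m : ℕ} {U : Submodule (ZMod 2) (V n)}
    (h : ∀ i < n, m.testBit i = true → vec n (2 ^ i) ∈ U) : Sp n m ≤ U := fun v hv => by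
  rw [pi_eq_sum_univ' v]
  refine U.sum_mem fun i _ => ?_
  cases e : m.testBit i
  · rw [hv i e, zero_smul]; exact U.zero_mem
  · exact U.smul_mem _ (vec_two_pow i ▸ h i i.2 e)

theorem mem_Sp_top (v : V n) : v ∈ Sp n (2 ^ n - 1) := fun i hi => by
  simp [Nat.testBit_two_pow_sub_one] at hi

theorem eq_of_mem_Sp_one {v : V n} (h : v ∈ Sp n 1) : v = 0 ∨ v = vec n 1 := by
  have : Sp n 1 ≤ Submodule.span (ZMod 2) {vec n 1} := Sp_le fun i _ hi => by
    obtain rfl : i = 0 := Nat.testBit_one_eq_true_iff_self_eq_zero.1 hi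
    exact Submodule.mem_span_singleton_self _
  obtain ⟨c, rfl⟩ := Submodule.mem_span_singleton.1 (this h)
  rcases (by decide : ∀ c : ZMod 2, c = 0 ∨ c = 1) c with rfl | rfl <;> simp

theorem eq_zero_of_mem_Sp {v : V n} (h : v ∈ Sp n 0) : v = 0 := funext fun i => h i (by simp)

variable (n) in
/-- the columns in `m` of the state are supported on `m'` -/
noncomputable def colsIn (m m' M : ℕ) : Bool :=
  force M fun M => allLT n fun i => or' (not' (tb m i)) (sb (Dig.dig n M i) m')

theorem Op.maps {F : ℕ → ℕ} {A : EV n} (h : Op n n F A) {m m' : ℕ}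
    (hb : colsIn n m m' (F (idS n)) = true) : ∀ v ∈ Sp n m, A v ∈ Sp n m' := by
  simp only [colsIn, force_eq, allLT_iff, or'_eq_true, not'_eq_true, tb_eq] at hb
  refine Sp_le (U := (Sp n m').comap A) fun i hi e => ?_
  rw [Submodule.mem_comap, vec_two_pow ⟨i, hi⟩, ← col_idS, ← h _ _ hi]
  exact vec_mem_Sp ((hb i hi).resolve_left (not_not.2 e))

variable (n) in
/-- the units acting trivially on `Sp m / Sp m'` -/
def Fl (m m' : ℕ) (h : sb m' m = true) : Subgroup (EV n)ˣ where
  carrier := {g | (∀ v ∈ Sp n m, g.1 v + v ∈ Sp n m') ∧ ∀ v ∈ Sp n m, g⁻¹.1 v + v ∈ Sp n m'}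
  one_mem' := ⟨fun v _ => by simp [vv], fun v _ => by simp [vv]⟩
  inv_mem' hg := ⟨hg.2, hg.1⟩
  mul_mem' := by
    have k : ∀ a b : (EV n)ˣ, (∀ v ∈ Sp n m, a.1 v + v ∈ Sp n m') →
        (∀ v ∈ Sp n m, b.1 v + v ∈ Sp n m') → ∀ v ∈ Sp n m, (a * b).1 v + v ∈ Sp n m' :=
      fun a b ha hb v hv => by
        have := add_mem (add_mem (ha _ (Sp_mono h (hb v hv))) (hb v hv)) (ha v hv)
        rw [add_assoc (a.1 _), vv, add_zero, map_add, add_assoc, vv'] at this
        exact this
    intro a b ha hb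
    exact ⟨k a b ha.1 hb.1, by rw [mul_inv_rev]; exact k _ _ hb.2 ha.2⟩

variable (n) in
/-- the words lie in `Fl m m'` -/
noncomputable def flB (R I : ℕ) (Ls : Lts) (m m' : ℕ) (ws : List (List ℕ)) : Bool :=
  allL ws fun u => and' (colsIn n m m' (Nat.xor (wo R Ls u I) I))
    (colsIn n m m' (Nat.xor (wo R Ls (invW u) I) I))

theorem cl_le_Fl (h : okL n R I Ls = true) {m m' : ℕ} {hm : sb m' m = true} {ws : List (List ℕ)}
    (hb : flB n R I Ls m m' ws = true) : cl (lu h) ws ≤ Fl n m m' hm := by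
  obtain rfl := okL_I h
  simp only [flB, allL_iff, and'_eq_true] at hb
  refine cl_le_iff.2 fun u hu => ⟨((op_wo h u).add Op.id).maps (hb u hu).1, ?_⟩
  rw [← (wd_lu h).el_invW]
  exact ((op_wo h _).add Op.id).maps (hb u hu).2

/-- the units preserving a subspace -/
def Pres (U : Submodule (ZMod 2) (V n)) : Subgroup (EV n)ˣ where
  carrier := {g | ∀ v, g.1 v ∈ U ↔ v ∈ U}
  one_mem' _ := Iff.rfl
  inv_mem' {g} hg v := by rw [← hg]; simp [← Module.End.mul_apply]
  mul_mem' ha hb v := (ha _).trans (hb v)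

theorem mem_Pres {U : Submodule (ZMod 2) (V n)} {g : (EV n)ˣ} (h : ∀ v ∈ U, g.1 v ∈ U)
    (h' : ∀ v ∈ U, g⁻¹.1 v ∈ U) : g ∈ Pres U := fun v =>
  ⟨fun e => by simpa [← Module.End.mul_apply] using h' _ e, h v⟩

theorem Fl_le_Pres {m : ℕ} {hm : sb m m = true} : Fl n m m hm ≤ Pres (Sp n m) := fun g hg =>
  mem_Pres (fun v hv => by simpa [add_assoc, vv] using add_mem (hg.1 v hv) hv)
    fun v hv => by simpa [add_assoc, vv] using add_mem (hg.2 v hv) hv

/-- the stabiliser of a vector -/
def Fx (v : V n) : Subgroup (EV n)ˣ where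
  carrier := {g | g.1 v = v}
  one_mem' := rfl
  inv_mem' {g} hg := by
    change g⁻¹.1 v = v
    conv_lhs => rw [← show g.1 v = v from hg]
    simp [← Module.End.mul_apply]
  mul_mem' {a b} ha hb := by
    change a.1 (b.1 v) = v
    rw [show b.1 v = v from hb, ha]

theorem cl_le_Fx (h : okL n R I Ls = true) (hn : 0 < n) {v : ℕ} {ws : List (List ℕ)}
    (hb : allL ws (fun u => Nat.beq (wo R Ls u v) v) = true) : cl (lu h) ws ≤ Fx (vec n v) :=
  cl_le_iff.2 fun u hu => by
    change (el (lu h) u).1 _ = _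
    rw [← vec_wo h hn, (beq_iff _ _).1 ((allL_iff _ _).1 hb u hu)]

/-- the sum of the entries selected by a mask -/
noncomputable def xs (vs : List ℕ) : ℕ → ℕ :=
  List.rec (motive := fun _ => ℕ → ℕ) (fun _ => 0)
    (fun a _ ih m => Nat.xor (Nat.mul (Nat.land m 1) a) (force (Nat.shiftRight m 1) ih)) vs

theorem xs_mem {U : Submodule (ZMod 2) (V n)} {vs : List ℕ} (h : ∀ a ∈ vs, vec n a ∈ U) (m : ℕ) :
    vec n (xs vs m) ∈ U := by
  induction vs generalizing m with
  | nil => exact vec_zero (n := n) ▸ U.zero_mem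
  | cons a vs ih =>
    change vec n (((m &&& 1) * a) ^^^ force (m >>> 1) (xs vs)) ∈ U
    rw [vec_xor, force_eq, Nat.and_one_is_mod]
    refine U.add_mem ?_ (ih (fun b hb => h b (List.mem_cons_of_mem _ hb)) _)
    rcases Nat.mod_two_eq_zero_or_one m with e | e <;> rw [e]
    · rw [zero_mul, vec_zero]; exact U.zero_mem
    · rw [one_mul]; exact h a List.mem_cons_self

variable (n) in
/-- the vectors span `Sp m` -/
noncomputable def spanB (vs sel : List ℕ) (m : ℕ) : Bool :=
  forceW vs fun vs => allLT n fun i => or' (not' (tb m i)) (Nat.beq (xs vs (getL 0 sel i)) (Nat.pow 2 i))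

theorem Sp_le_of_spanB {U : Submodule (ZMod 2) (V n)} {vs sel : List ℕ} {m : ℕ}
    (hb : spanB n vs sel m = true) (h : ∀ a ∈ vs, vec n a ∈ U) : Sp n m ≤ U := by
  simp only [spanB, forceW_eq, allLT_iff, or'_eq_true, not'_eq_true, tb_eq, beq_iff] at hb
  exact Sp_le fun i hi e => by
    have := xs_mem h (getL 0 sel i)
    rwa [(hb i hi).resolve_left (not_not.2 e)] at this

/-- images of vectors under words -/
noncomputable def imV (R : ℕ) (Ls : Lts) (us : List (List ℕ × ℕ)) : List ℕ :=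
  mapR (fun p => wo R Ls p.1 p.2) us

/-- commutators of vectors with words -/
noncomputable def cmV (R : ℕ) (Ls : Lts) (us : List (List ℕ × ℕ)) : List ℕ :=
  mapR (fun p => Nat.xor (wo R Ls p.1 p.2) p.2) us

theorem imV_mem (h : okL n R I Ls = true) (hn : 0 < n) {U : Submodule (ZMod 2) (V n)}
    {us : List (List ℕ × ℕ)} (hU : ∀ p ∈ us, (el (lu h) p.1).1 (vec n p.2) ∈ U) :
    ∀ a ∈ imV R Ls us, vec n a ∈ U := fun a ha => by
  rw [imV, mapR_eq] at ha
  obtain ⟨p, hp, rfl⟩ := List.mem_map.1 ha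
  rw [vec_wo h hn]; exact hU p hp

theorem cmV_mem (h : okL n R I Ls = true) (hn : 0 < n) {U : Submodule (ZMod 2) (V n)}
    {us : List (List ℕ × ℕ)} (hU : ∀ p ∈ us, (el (lu h) p.1).1 (vec n p.2) + vec n p.2 ∈ U) :
    ∀ a ∈ cmV R Ls us, vec n a ∈ U := fun a ha => by
  rw [cmV, mapR_eq] at ha
  obtain ⟨p, hp, rfl⟩ := List.mem_map.1 ha
  exact (vec_xor _ _).trans (congrArg (· + _) (vec_wo h hn _ _)) ▸ hU p hp

variable (n) in
/-- the operation of a matrix given by its state -/
noncomputable def mo (R Y M : ℕ) : ℕ := ap R ((List.range n).map fun j => (j, Dig.dig n Y j)) M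

theorem op_mo (h : okL n R I Ls = true) (Y : ℕ) : Op n n (mo n R Y) (mat n (Dig.dig n Y)) := by
  simp only [okL, and'_eq_true, beq_iff] at h
  rw [h.1]
  exact op_mat fun _ _ => Dig.dig_lt _ _ _

theorem Op.mat_eq {F : ℕ → ℕ} {A : EV n} (h : Op n n F A) : mat n (Dig.dig n (F (idS n))) = A :=
  (Pi.basisFun (ZMod 2) (Fin n)).ext fun i => by
    rw [Pi.basisFun_apply, mat_apply, Finset.sum_eq_single i (fun j _ e => by simp [e]) (by simp),
      ← col_idS, ← h _ _ i.2, col_idS]
    simp [col]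

variable (n) in
/-- the common fixed vectors in `Sp m` of the words lie in `Sp m'` -/
noncomputable def fixB (R I : ℕ) (Ls : Lts) (ps : List (List ℕ × ℕ)) (m m' : ℕ) : Bool :=
  colsIn n m m' (Nat.xor I (smA (fun p M => mo n R p.2 (Nat.xor (wo R Ls p.1 M) M)) ps I))

theorem mem_of_fixB (h : okL n R I Ls = true) {ps : List (List ℕ × ℕ)} {m m' : ℕ}
    (hb : fixB n R I Ls ps m m' = true) {v : V n} (hv : v ∈ Sp n m)
    (hf : ∀ p ∈ ps, (el (lu h) p.1).1 v = v) : v ∈ Sp n m' := by
  obtain rfl := okL_I h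
  have := (Op.id.add (op_smA (A := fun p : List ℕ × ℕ => mat n (Dig.dig n p.2) * ((el (lu h) p.1).1 + 1))
    (l := ps) fun p _ => (op_mo h p.2).comp ((op_wo h p.1).add Op.id))).maps hb v hv
  rw [LinearMap.add_apply, lsum_apply, List.sum_eq_zero, add_zero] at this
  · exact this
  · intro y hy
    obtain ⟨p, hp, rfl⟩ := List.mem_map.1 hy
    rw [Module.End.mul_apply, LinearMap.add_apply, hf p hp, Module.End.one_apply, vv, map_zero]

/-- words acting on states with more columns -/
theorem op_woQ (h : okL n R I Ls = true) {Q R' : ℕ} (hR : R' = Kron.rep n Q 1) (u : List ℕ) :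
    Op n Q (wo R' Ls u) (el (lu h) u : (EV n)ˣ) := by
  have h' := h
  simp only [okL, and'_eq_true, beq_iff, allL_iff, blt_iff] at h'
  induction u with
  | nil => exact Op.id
  | cons a u ih =>
    have : wo R' Ls (a :: u) = fun M => lo R' Ls a (wo R' Ls u M) := funext fun M => force_eq _ _
    rw [this, el_cons, Units.val_mul]
    refine Op.comp (A := lm n Ls a) (Op.id.add ?_) ih
    rw [hR]
    refine op_ap fun p hp => ?_
    by_cases ha : a < Ls.length
    · exact h'.2.2.2.1 _ (by rw [getL_eq, List.getD_eq_getElem _ _ ha]; exact List.getElem_mem ha) p hp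
    · rw [getL_eq, List.getD_eq_default _ _ (not_lt.1 ha)] at hp; simp at hp

/-- strictness of a series by flags -/
noncomputable def strB (n R I : ℕ) (Ls : Lts) (cs : List (List ℕ)) : List (ℕ × ℕ × ℕ) → Bool :=
  List.rec (motive := fun _ => List (ℕ × ℕ × ℕ) → Bool) (fun _ => true) (fun c l ih fs =>
    List.rec (motive := fun _ => Bool) false (fun f fs' _ => and' (sb f.2.1 f.1)
      (and' (flB n R I Ls f.1 f.2.1 l) (and' (sb f.2.2 f.1) (and' (anyLT n fun i =>
        and' (not' (tb f.2.1 i)) (tb (Nat.xor (wo R Ls c f.2.2) f.2.2) i)) (ih fs'))))) fs) cs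

theorem str_of_strB (h : okL n R I Ls = true) {cs : List (List ℕ)} {fs : List (ℕ × ℕ × ℕ)}
    (hb : strB n R I Ls cs fs = true) : Str (lu h) cs := by
  induction cs generalizing fs with
  | nil => trivial
  | cons c l ih =>
    cases fs with
    | nil => exact absurd hb (by change ¬ (false = true); simp)
    | cons f fs =>
      change and' _ (and' _ (and' _ (and' _ (strB n R I Ls l fs)))) = true at hb
      simp only [and'_eq_true, anyLT_iff, not'_eq_true, tb_eq] at hb
      obtain ⟨h1, h2, h3, ⟨i, hi, h4, h5⟩, h6⟩ := hb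
      refine ⟨fun hm => ?_, ih h6⟩
      have := (cl_le_Fl h (hm := h1) h2 hm).1 _ (vec_mem_Sp h3) ⟨i, hi⟩ (by simpa using h4)
      rw [← vec_wo h (by omega), ← vec_xor] at this
      change (if (Nat.xor _ _).testBit i = true then (1 : ZMod 2) else 0) = 0 at this
      rw [if_pos h5] at this
      exact one_ne_zero this

end Cfsg.Agent.Comp.BM
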