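import Cfsg.Agent.Comp.LookT

/-! The transposing network for `2^19` points. -/

set_option autoImplicit false
set_option Elab.async false

namespace Cfsg.Agent.Comp

noncomputable def trN19 : Net := transNet 24 [(0, 19), (1, 20), (2, 21), (3, 22), (4, 23), (5, 19), (6, 20), (7, 21), (8, 22), (9, 23), (10, 19), (11, 20), (12, 21), (13, 22), (14, 23), (15, 19), (16, 20), (17, 21), (18, 22), (19, 23), (20, 23), (21, 23), (22, 23)]

theorem trOK19_0 : AllIn (fun j => chkTr 19 5 trN19 j = true) 0 (0 + 4) :=
  allIn_of_allFrom (by decide +kernel)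

theorem trOK19_1 : AllIn (fun j => chkTr 19 5 trN19 j = true) 4 (4 + 4) :=
  allIn_of_allFrom (by decide +kernel)

theorem trOK19_2 : AllIn (fun j => chkTr 19 5 trN19 j = true) 8 (8 + 4) :=
  allIn_of_allFrom (by decide +kernel)

theorem trOK19_3 : AllIn (fun j => chkTr 19 5 trN19 j = true) 12 (12 + 4) :=
  allIn_of_allFrom (by decide +kernel)

theorem trOK19_4 : AllIn (fun j => chkTr 19 5 trN19 j = true) 16 (16 + 4) :=
  allIn_of_allFrom (by decide +kernel)

theorem trOK19_5 : AllIn (fun j => chkTr 19 5 trN19 j = true) 20 (20 + 4) :=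
  allIn_of_allFrom (by decide +kernel)

theorem trOK19 : TransOK 19 5 trN19 := transOK_of (by decide +kernel)
  (((((trOK19_0.trans trOK19_1).trans trOK19_2).trans trOK19_3).trans trOK19_4).trans trOK19_5)

end Cfsg.Agent.Comp
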