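import Cfsg.Agent.Comp.MatCov

/-! Covers from matrices whose inverses are stored as further letters. -/

set_option autoImplicit false

namespace Cfsg.Agent.Comp.MB.Par.Mdl

open Cfsg.Agent.Comp.BN
open scoped commutatorElement

variable {q : Par} {L : ℕ → ℕ} {R : ℕ → q.Gr} (h : q.Mdl L R)
include h

theorem mem_zpowers {n : ℕ} {zs : List (List ℕ)} (hzs : ∀ U ∈ zs, ∀ a ∈ U, a = n) {W : List ℕ}
    (hc : q.relZ L zs W = true) : ev R W ∈ Subgroup.zpowers (R n) := by
  rw [relZ, force_eq, bif'_eq] at hc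
  split_ifs at hc with h5
  rw [allL_eq] at h5
  push Not at h5
  obtain ⟨U, hU, h6⟩ := h5
  rw [bif'_eq] at h6
  split_ifs at h6 with h7
  · rw [h.eq h7]
    refine list_prod_mem fun g hg => ?_
    obtain ⟨a, ha, rfl⟩ := List.mem_map.1 hg
    rw [hzs U hU a ha]; exact Subgroup.mem_zpowers _
  · exact absurd rfl h6

theorem orderOf_word {k m : ℕ} (h1 : q.eqC L (List.replicate (m + 1) k) [] = true)
    (h2 : BN.allN (fun i => bif' (q.eqC L (List.replicate (i + 1) k) []) false true) m = true) :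
    orderOf (R k) = m + 1 := by
  refine (orderOf_eq_iff m.succ_pos).2 ⟨by simpa [ev] using h.eq h1, fun i hi hi' => ?_⟩
  obtain ⟨j, rfl⟩ : ∃ j, i = j + 1 := ⟨i - 1, by omega⟩
  have h3 := (allN_eq _ _).1 h2 j (by omega)
  rw [bif'_eq] at h3
  split_ifs at h3 with h4
  simpa [ev] using h.ne (Bool.eq_false_iff.2 h4)

/-- The letters below `n` satisfy `P` modulo the letter `n`. -/
theorem stem {G : Type} [Group G] {P : Pres} {x : ℕ → G} (hx : Link P x) [IsSimpleGroup G] {n : ℕ}
    (hn : P.inv.length = n) {zs : List (List ℕ)} (hzs : ∀ U ∈ zs, ∀ a ∈ U, a = n)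
    (hP : (∀ r ∈ P.rels, ∀ a ∈ r, a < n) ∧ ∀ k < n, P.I k < n)
    (hz : BN.allN (fun k => band (q.eqC L [k, n] [n, k]) (q.relZ L zs [P.I k, k])) n = true)
    (hr : BN.allL (q.relZ L zs) P.rels = true) {i j : ℕ} (hij : i < n ∧ j < n)
    (hne : q.eqC L [i, j] [j, i] = false) {U V : List ℕ} (hU : ∀ a ∈ U ++ V, a < n) {o : ℕ}
    (ho : ⁅ev R U, ev R V⁆ ^ o = R n) {m : ℕ} (hm : orderOf (R n) = m) :
    KSG.Pc.MultOnto G (Multiplicative (ZMod m)) := by
  subst hm
  have e1 : ∀ W : List ℕ, (∀ a ∈ W, a < n) → ev (fun k => R (min k n)) W = ev R W := fun W hW =>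
    congrArg List.prod (List.map_congr_left fun a ha => by rw [min_eq_left (hW a ha).le])
  have e2 : ∀ k, n ≤ k → R (min k n) ∈ Subgroup.zpowers (R n) := fun k hk => by
    rw [min_eq_right hk]; exact Subgroup.mem_zpowers _
  simp only [allN_eq, band_eq] at hz
  have hs : SatZ P (fun k => R (min k n)) (R n) := by
    refine ⟨by simpa using mem_gen (fun k => R (min k n)) n, fun k => ?_,
      fun k hk => e2 k (hn ▸ hk), fun k => ?_, fun r hr' => ?_⟩
    · by_cases hk : k < n
      · simpa [min_eq_left hk.le] using h.eq (hz k hk).1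
      · rw [min_eq_right (not_lt.1 hk)]
    · by_cases hk : k < n
      · simpa [min_eq_left hk.le, min_eq_left (hP.2 k hk).le] using h.mem_zpowers hzs (hz k hk).2
      · rw [Pres.I, nth_of_le _ _ _ (hn ▸ not_lt.1 hk)]
        exact mul_mem (e2 k (not_lt.1 hk)) (e2 k (not_lt.1 hk))
    · rw [e1 r (hP.1 r hr')]
      exact h.mem_zpowers hzs ((allL_eq _ _).1 hr r hr')
  refine (hs.exists_stem hx (i := i) (j := j) ?_ (U := U) (V := V) (o := o) ?_).2.2.2
  · simpa [min_eq_left hij.1.le, min_eq_left hij.2.le] using h.not_comm hne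
  · rw [e1 U fun a ha => hU a (List.mem_append_left _ ha),
      e1 V fun a ha => hU a (List.mem_append_right _ ha), ho]

end Cfsg.Agent.Comp.MB.Par.Mdl
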